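import Groth.Agent.DimLocalBase.StrictModel
import Groth.Agent.S0538
import Groth.Agent.EtCdFun.Main
import Mathlib.AlgebraicGeometry.Morphisms.FiniteType
import Mathlib.RingTheory.NoetherNormalization
import Mathlib.FieldTheory.IntermediateField.Algebraic

/-!
# Strict henselizations realised at closed points over strictly henselian bases
-/

set_option autoImplicit false
set_option linter.style.haveILetI false
set_option backward.isDefEq.respectTransparency false
set_option backward.isDefEq.respectTransparency.types false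

universe u

open IsLocalRing CategoryTheory AlgebraicGeometry

noncomputable section

namespace Groth.Agent.DimLocalBase

/-- a field `κ` algebraic over the fractions of `T` is algebraic over a subfield over which `T` is integral -/
theorem isAlgebraic_of_generated {F E G T : Type u} [Field F] [Field E] [Field G] [CommRing T]
    (φ : F →+* E) (σ : G →+* E) (ρ : T →+* G)
    (hT : ∀ x : T, φ.IsIntegralElem (σ (ρ x)))
    (hgen : ∀ w : G, ∃ a b : T, ρ b ≠ 0 ∧ w * ρ b = ρ a)
    (hσ : ∀ z : E, @IsAlgebraic G E _ _ σ.toAlgebra z) (z : E) :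
    @IsAlgebraic F E _ _ φ.toAlgebra z := by
  letI : Algebra F E := φ.toAlgebra
  let K := algebraicClosure F E
  have hmem : ∀ w, σ w ∈ K := fun w => by
    obtain ⟨a, b, hb, hab⟩ := hgen w
    have h0 : σ (ρ b) ≠ 0 := fun h => hb ((map_eq_zero σ).1 h)
    rw [eq_div_of_mul_eq h0 (by rw [← map_mul, hab] : σ w * σ (ρ b) = σ (ρ a))]
    have ha' : IsIntegral F (σ (ρ a)) := hT a
    have hb' : IsIntegral F (σ (ρ b)) := hT b
    exact div_mem ((mem_algebraicClosure_iff).2 ha'.isAlgebraic) ((mem_algebraicClosure_iff).2 hb'.isAlgebraic)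
  let σ' : G →+* K := σ.codRestrict K.toSubfield hmem
  have h1 : IsIntegral K z := by
    obtain ⟨p, hp, hpz⟩ := @IsAlgebraic.isIntegral G E _ _ σ.toAlgebra z (hσ z)
    refine ⟨p.map σ', hp.map σ', ?_⟩
    rw [Polynomial.eval₂_map]
    exact hpz
  exact (isIntegral_trans (A := K) z h1).isAlgebraic

/-- the prime to which the residue field of a strict henselization at a point is finite transcendental over -/
theorem exists_point (C Γ O A : Type u) [CommRing C] [CommRing Γ] [Algebra C Γ] [Algebra.FiniteType C Γ]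
    (P : Ideal Γ) [P.IsPrime] (hint : ((Ideal.Quotient.mk P).comp (algebraMap C Γ)).IsIntegral)
    [CommRing O] [IsLocalRing O] [Algebra Γ O] [IsLocalization.AtPrime O P] [CommRing A] [IsLocalRing A]
    [Algebra O A] [IsLocalHom (algebraMap O A)] [_root_.Hensel.IsStrictHenselization O A]
    (Q : Ideal C) [Q.IsPrime] (hQ : P.comap (algebraMap C Γ) = Q)
    (W L : Type u) [CommRing W] [IsLocalRing W] [Algebra C W] [IsLocalization.AtPrime W Q] [CommRing L]
    [IsLocalRing L] [Algebra W L] [IsLocalHom (algebraMap W L)] [_root_.Hensel.IsStrictHenselization W L] :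
    ∃ (X' : Scheme.{u}) (f' : X' ⟶ Spec (CommRingCat.of L)) (_ : LocallyOfFiniteType f') (_ : QuasiCompact f')
      (x' : X') (_ : IsClosed ({x'} : Set X'))
      (_ : f'.base x' = ((closedPoint L : PrimeSpectrum L) : ↥(Spec (CommRingCat.of L))))
      (_ : Algebra (X'.presheaf.stalk x') A) (_ : IsLocalHom (algebraMap (X'.presheaf.stalk x') A)),
      _root_.Hensel.IsStrictHenselization (X'.presheaf.stalk x') A := by
  subst hQ
  letI : Algebra C L := ((algebraMap W L).comp (algebraMap C W)).toAlgebra
  haveI : IsScalarTower C W L := .of_algebraMap_eq fun _ => rfl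
  haveI : Algebra.WeaklyEtale C W := WEtLib.weaklyEtale_localization (P.comap (algebraMap C Γ)).primeCompl
  haveI : Algebra.WeaklyEtale W L := S0736.result _ _ (S12237.result W L)
  haveI : Algebra.WeaklyEtale C L := Algebra.WeaklyEtale.trans C W L
  haveI : HenselianLocalRing A := _root_.Hensel.IsStrictHenselization.henselian (R := O)
  haveI : IsSepClosed (ResidueField A) := BcQCalc.isSepClosed_residueField_of_strict O A
  -- the local map `W → O`
  have hu : ∀ y : (P.comap (algebraMap C Γ)).primeCompl, IsUnit (((algebraMap Γ O).comp (algebraMap C Γ)) y) :=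
    fun y => IsLocalization.map_units O (⟨algebraMap C Γ y, y.2⟩ : P.primeCompl)
  let g : W →+* O := IsLocalization.lift hu
  have hg : ∀ c, g (algebraMap C W c) = algebraMap Γ O (algebraMap C Γ c) := fun c => IsLocalization.lift_eq hu c
  haveI : IsLocalHom g := ⟨fun w hw => by
    obtain ⟨b, s, rfl⟩ := IsLocalization.exists_mk'_eq (P.comap (algebraMap C Γ)).primeCompl w
    refine (IsLocalization.AtPrime.isUnit_mk'_iff W (P.comap (algebraMap C Γ)) b s).2 fun hb => ?_
    have h1 : g (algebraMap C W b) = g (IsLocalization.mk' W b s) * g (algebraMap C W s) := by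
      rw [← map_mul, IsLocalization.mk'_spec]
    rw [hg, hg] at h1
    have h2 : IsUnit (algebraMap Γ O (algebraMap C Γ b)) := by
      rw [h1]
      exact IsUnit.mul hw (hu s)
    exact (IsLocalization.AtPrime.isUnit_to_map_iff O P _).1 h2 hb⟩
  let φ : W →+* A := (algebraMap O A).comp g
  haveI : IsLocalHom φ := RingHom.isLocalHom_comp _ _
  obtain ⟨τ, hτ⟩ := BcQCalc.exists_residue_extension (O := W) (R := L) (ResidueField.map φ)
  obtain ⟨ψ, ⟨hψ, hψr⟩, -⟩ :=
    (show _root_.Hensel.IsStrictHenselization W L by infer_instance).universal A φ τ hτ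
  haveI : IsLocalHom ψ := ⟨fun a ha => by
    by_contra h
    have h1 : residue L a = 0 := (residue_eq_zero_iff a).2 h
    have h2 : residue A (ψ a) = 0 := by rw [hψr, h1, map_zero]
    exact (residue_eq_zero_iff _).1 h2 ha⟩
  have hψC : ∀ c, ψ (algebraMap C L c) = algebraMap O A (algebraMap Γ O (algebraMap C Γ c)) := fun c => by
    show ψ (algebraMap W L (algebraMap C W c)) = _
    rw [show ψ (algebraMap W L (algebraMap C W c)) = φ (algebraMap C W c) from RingHom.congr_fun hψ _]
    show algebraMap O A (g _) = _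
    rw [hg]
  have halg : ∀ z : ResidueField A,
      @IsAlgebraic (ResidueField L) (ResidueField A) _ _ (ResidueField.map ψ).toAlgebra z := by
    refine isAlgebraic_of_generated (ResidueField.map ψ) (ResidueField.map (algebraMap O A))
      ((residue O).comp (algebraMap Γ O)) (fun x => ?_) (fun w => ?_) (fun z => ?_)
    · obtain ⟨p, hp, hpx⟩ := hint (Ideal.Quotient.mk P x)
      refine ⟨p.map ((residue L).comp (algebraMap C L)), hp.map _, ?_⟩
      let κ : Γ ⧸ P →+* ResidueField A := Ideal.Quotient.lift P ((residue A).comp ((algebraMap O A).comp (algebraMap Γ O)))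
        fun a ha => (residue_eq_zero_iff _).2 (map_nonunit (algebraMap O A) _ (by
          rwa [IsLocalization.AtPrime.to_map_mem_maximal_iff O P]))
      have hκ : (ResidueField.map ψ).comp ((residue L).comp (algebraMap C L)) =
          κ.comp ((Ideal.Quotient.mk P).comp (algebraMap C Γ)) := RingHom.ext fun c => by
        show ResidueField.map ψ (residue L (algebraMap C L c)) = κ (Ideal.Quotient.mk P (algebraMap C Γ c))
        rw [ResidueField.map_residue, hψC]
        rfl
      rw [Polynomial.eval₂_map, hκ]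
      show Polynomial.eval₂ _ (κ (Ideal.Quotient.mk P x)) p = 0
      rw [← Polynomial.hom_eval₂, hpx, map_zero]
    · obtain ⟨w, rfl⟩ := residue_surjective w
      obtain ⟨a, s, rfl⟩ := IsLocalization.exists_mk'_eq P.primeCompl w
      refine ⟨a, s, fun h => ?_, ?_⟩
      · have h' : algebraMap Γ O s ∈ maximalIdeal O := (residue_eq_zero_iff _).1 h
        exact s.2 ((IsLocalization.AtPrime.to_map_mem_maximal_iff O P _).1 h')
      · show residue O _ * residue O _ = residue O _
        rw [← map_mul, IsLocalization.mk'_spec]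
    · haveI := _root_.Hensel.IsStrictHenselization.isSepClosure (R := O) (S := A)
      haveI : Algebra.IsSeparable (ResidueField O) (ResidueField A) := IsSepClosure.separable
      exact (Algebra.IsSeparable.isSeparable (ResidueField O) z).isIntegral.isAlgebraic
  obtain ⟨B, _, _, _, n, _, hn, hB⟩ := exists_model C L Γ O A P ψ hψC halg
  let x' : Spec (CommRingCat.of B) := (⟨n, inferInstance⟩ : PrimeSpectrum B)
  letI : Algebra B ((Spec (CommRingCat.of B)).presheaf.stalk x') :=
    AlgebraicGeometry.StructureSheaf.stalkAlgebra (R := B) x'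
  haveI : IsLocalization.AtPrime ((Spec (CommRingCat.of B)).presheaf.stalk x') n :=
    AlgebraicGeometry.StructureSheaf.IsLocalization.to_stalk (R := B) x'
  obtain ⟨i1, i2, hS⟩ := hB ((Spec (CommRingCat.of B)).presheaf.stalk x')
  refine ⟨Spec (CommRingCat.of B), Spec.map (CommRingCat.ofHom (algebraMap L B)), ?_, inferInstance, x', ?_, ?_,
    i1, i2, hS⟩
  · rw [HasRingHomProperty.Spec_iff (P := @LocallyOfFiniteType)]
    exact RingHom.finiteType_algebraMap.2 inferInstance
  · exact (PrimeSpectrum.isClosed_singleton_iff_isMaximal (⟨n, inferInstance⟩ : PrimeSpectrum B)).2 inferInstance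
  · exact PrimeSpectrum.ext hn

/-- affine chart of a finite type scheme around a point -/
theorem exists_chart (R : Type u) [CommRing R] {X : Scheme.{u}} (f : X ⟶ Spec (CommRingCat.of R))
    [LocallyOfFiniteType f] (x : X) :
    ∃ (Γ : Type u) (_ : CommRing Γ) (_ : Algebra R Γ) (_ : Algebra.FiniteType R Γ) (P : Ideal Γ) (_ : P.IsPrime)
      (_ : Algebra Γ (X.presheaf.stalk x)), IsLocalization.AtPrime (X.presheaf.stalk x) P ∧
      P.comap (algebraMap R Γ) = PrimeSpectrum.asIdeal (f.base x) := by
  obtain ⟨U, hU, hxU, -⟩ := exists_isAffineOpen_mem_and_subset (X := X) (x := x) (U := ⊤) trivial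
  let h : CommRingCat.of R ⟶ Γ(X, U) := (Scheme.ΓSpecIso (CommRingCat.of R)).inv ≫ f.appLE ⊤ U le_top
  letI : Algebra R Γ(X, U) := h.hom.toAlgebra
  haveI : Algebra.FiniteType R Γ(X, U) := by
    show h.hom.FiniteType
    have h1 := f.finiteType_appLE (isAffineOpen_top _) hU (le_top : U ≤ f ⁻¹ᵁ ⊤)
    exact RingHom.FiniteType.comp h1
      (RingHom.FiniteType.of_surjective _ (Scheme.ΓSpecIso (CommRingCat.of R)).symm.commRingCatIsoToRingEquiv.surjective)
  letI := X.presheaf.algebra_section_stalk (⟨x, hxU⟩ : U)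
  haveI := hU.isLocalization_stalk ⟨x, hxU⟩
  refine ⟨Γ(X, U), inferInstance, inferInstance, inferInstance, (hU.primeIdealOf ⟨x, hxU⟩).asIdeal, inferInstance,
    inferInstance, inferInstance, ?_⟩
  ext r
  have h1 : IsUnit (X.presheaf.germ U x hxU (h r)) ↔ x ∈ X.basicOpen (h r) := (X.mem_basicOpen (h r) x hxU).symm
  have h2 : X.basicOpen (h r) = f ⁻¹ᵁ (PrimeSpectrum.basicOpen r) ⊓ U := by
    show X.basicOpen (f.appLE ⊤ U le_top ((Scheme.ΓSpecIso (CommRingCat.of R)).inv r)) = _
    rw [Scheme.basicOpen_appLE, basicOpen_eq_of_affine', Iso.inv_hom_id_apply, inf_comm]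
  have h3 : x ∈ X.basicOpen (h r) ↔ r ∉ (f.base x).asIdeal := by
    rw [h2]
    exact ⟨fun hh => hh.1, fun hh => ⟨hh, hxU⟩⟩
  have h4 := IsLocalization.AtPrime.isUnit_to_map_iff (X.presheaf.stalk x) (hU.primeIdealOf ⟨x, hxU⟩).asIdeal (h r)
  refine not_iff_not.1 ?_
  exact h4.symm.trans (h1.trans h3)

end Groth.Agent.DimLocalBase
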