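import Mathlib.RingTheory.Ideal.KrullsHeightTheorem
import Mathlib.RingTheory.Spectrum.Prime.ConstructibleSet
import Mathlib.RingTheory.Ideal.Quotient.Noetherian

/-!
# Constructible points of Noetherian spectra
-/

set_option autoImplicit false

universe u

namespace Groth.Agent.DimLocalBase

theorem no_chain_of_mem (D : Type u) [CommRing D] [IsDomain D] [IsNoetherianRing D] {g : D} (hg : g ≠ 0)
    (hall : ∀ p : Ideal D, p.IsPrime → p ≠ ⊥ → g ∈ p) {p r : Ideal D} [p.IsPrime] [r.IsPrime]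
    (hp : p ≠ ⊥) (hpr : p < r) : False := by
  classical
  let M := (Ideal.span {g}).minimalPrimes
  have hfin : M.Finite := Ideal.finite_minimalPrimes_of_isNoetherianRing D _
  have hM : ∀ P ∈ M, P.height ≤ 1 ∧ P ≠ ⊥ ∧ P.IsPrime := fun P hP => by
    haveI := hP.1.1
    exact ⟨Ideal.height_le_one_of_isPrincipal_of_mem_minimalPrimes _ P hP,
      fun h => hg (Ideal.mem_bot.1 (h ▸ hP.1.2 (Ideal.mem_span_singleton_self g))), hP.1.1⟩
  have hr : ∀ P ∈ M, ¬ r ≤ P := fun P hP hrP => by
    haveI := (hM P hP).2.2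
    have h1 : (⊥ : Ideal D).height + 1 ≤ p.height :=
      Ideal.height_add_one_le_of_lt_of_isPrime (bot_lt_iff_ne_bot.2 hp)
    have h2 : p.height + 1 ≤ r.height := Ideal.height_add_one_le_of_lt_of_isPrime hpr
    rw [Ideal.height_bot, zero_add] at h1
    have h3 : (2 : ℕ∞) ≤ P.height :=
      le_trans (by rw [← one_add_one_eq_two]; gcongr) (h2.trans (Ideal.height_mono hrP))
    exact absurd (h3.trans (hM P hP).1) (by decide)
  obtain ⟨h, hhr, hhM⟩ : ∃ h ∈ r, ∀ P ∈ M, h ∉ P := by
    by_contra hne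
    push Not at hne
    have hsub : (r : Set D) ⊆ ⋃ P ∈ (↑hfin.toFinset : Set (Ideal D)), (P : Set D) := fun h hh => by
      obtain ⟨P, hP, hhP⟩ := hne h hh
      exact Set.mem_biUnion (by simpa using hP) hhP
    obtain ⟨P, hP, hle⟩ := (Ideal.subset_union_prime (f := fun P : Ideal D => P) ⊥ ⊥
      fun P hP _ _ => (hM P (by simpa using hP)).2.2).1 hsub
    exact hr P (by simpa using hP) hle
  obtain ⟨P₀, hP₀, -⟩ := Ideal.exists_minimalPrimes_le
    (show Ideal.span {g} ≤ p from (Ideal.span_singleton_le_iff_mem _).2 (hall p inferInstance hp))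
  have hh0 : h ≠ 0 := fun h0 => hhM P₀ hP₀ (h0 ▸ P₀.zero_mem)
  obtain ⟨p', hp', hp'r⟩ := Ideal.exists_minimalPrimes_le
    (show Ideal.span {h} ≤ r from (Ideal.span_singleton_le_iff_mem _).2 hhr)
  haveI := hp'.1.1
  have hp'0 : p' ≠ ⊥ := fun h0 => hh0 (Ideal.mem_bot.1 (h0 ▸ hp'.1.2 (Ideal.mem_span_singleton_self h)))
  obtain ⟨P, hP, hPle⟩ := Ideal.exists_minimalPrimes_le
    (show Ideal.span {g} ≤ p' from (Ideal.span_singleton_le_iff_mem _).2 (hall p' inferInstance hp'0))
  haveI := (hM P hP).2.2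
  rcases hPle.eq_or_lt with he | hlt
  · exact hhM P hP (he ▸ hp'.1.2 (Ideal.mem_span_singleton_self h))
  · have h1 : (⊥ : Ideal D).height + 1 ≤ P.height :=
      Ideal.height_add_one_le_of_lt_of_isPrime (bot_lt_iff_ne_bot.2 (hM P hP).2.1)
    have h2 : P.height + 1 ≤ p'.height := Ideal.height_add_one_le_of_lt_of_isPrime hlt
    rw [Ideal.height_bot, zero_add] at h1
    have h3 : (2 : ℕ∞) ≤ p'.height := le_trans (by rw [← one_add_one_eq_two]; gcongr) h2
    exact absurd (h3.trans (Ideal.height_le_one_of_isPrincipal_of_mem_minimalPrimes _ p' hp')) (by decide)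

/-- above a constructible point of a Noetherian spectrum there are no chains of length two -/
theorem no_chain_above (A : Type u) [CommRing A] [IsNoetherianRing A] {q p r : PrimeSpectrum A}
    (hq : Topology.IsConstructible ({q} : Set (PrimeSpectrum A))) (hqp : q < p) (hpr : p < r) : False := by
  obtain ⟨S, hS⟩ := PrimeSpectrum.exists_constructibleSetData_iff.2 hq
  have hqS : q ∈ S.toSet := hS ▸ rfl
  simp only [PrimeSpectrum.ConstructibleSetData.toSet, Set.mem_iUnion] at hqS
  obtain ⟨C, hC, hqC⟩ := hqS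
  have key : ∀ t : PrimeSpectrum A, q < t → C.f ∈ t.asIdeal := fun t ht => by
    by_contra hf
    have : t ∈ S.toSet := by
      simp only [PrimeSpectrum.ConstructibleSetData.toSet, Set.mem_iUnion]
      refine ⟨C, hC, fun a ha => ht.le (hqC.1 ha), fun h => hf (h rfl)⟩
    rw [hS] at this
    exact ht.ne (Set.mem_singleton_iff.1 this).symm
  let D := A ⧸ q.asIdeal
  let μ : A →+* D := Ideal.Quotient.mk q.asIdeal
  have hμ : Function.Surjective μ := Ideal.Quotient.mk_surjective
  have hker : RingHom.ker μ = q.asIdeal := Ideal.mk_ker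
  haveI : (p.asIdeal.map μ).IsPrime := Ideal.map_isPrime_of_surjective hμ (hker.le.trans hqp.le)
  haveI : (r.asIdeal.map μ).IsPrime := Ideal.map_isPrime_of_surjective hμ (hker.le.trans (hqp.trans hpr).le)
  have hcm : ∀ t : PrimeSpectrum A, q ≤ t → (t.asIdeal.map μ).comap μ = t.asIdeal := fun t ht => by
    rw [Ideal.comap_map_of_surjective μ hμ, ← RingHom.ker_eq_comap_bot, hker, sup_eq_left.2 ht]
  refine no_chain_of_mem D (g := μ C.f) (fun h => hqC.2 ?_) (fun t ht ht0 => ?_)
    (p := p.asIdeal.map μ) (r := r.asIdeal.map μ) (fun h => ?_) (lt_of_le_of_ne (Ideal.map_mono hpr.le) fun h => ?_)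
  · intro a ha
    rw [Set.mem_singleton_iff.1 ha]
    exact Ideal.Quotient.eq_zero_iff_mem.1 h
  · haveI := ht
    refine key ⟨t.comap μ, inferInstance⟩ (lt_of_le_of_ne (fun a ha => ?_) fun h => ht0 ?_)
    · show μ a ∈ t
      rw [Ideal.Quotient.eq_zero_iff_mem.2 ha]
      exact t.zero_mem
    · rw [← Ideal.map_comap_of_surjective μ hμ t, show t.comap μ = q.asIdeal from (congrArg PrimeSpectrum.asIdeal h).symm,
        Ideal.map_quotient_self]
  · exact hqp.not_ge (show p.asIdeal ≤ q.asIdeal from hker ▸ (Ideal.map_eq_bot_iff_le_ker μ).1 h)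
  · exact hpr.ne (PrimeSpectrum.ext (by rw [← hcm p hqp.le, h, hcm r (hqp.trans hpr).le]))

end Groth.Agent.DimLocalBase
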