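import Groth.Agent.DimFormula.Catenary
import Groth.Agent.DimFormula.Scheme
import Groth.Agent.Hensel.FiniteDescent
import Groth.Agent.WStrictLib.WEtaleCover
import Groth.Agent.WEtLib.Basic
import Groth.Agent.S0736
import Groth.Agent.S12237
import Groth.Agent.S0540
import Mathlib.RingTheory.Ideal.GoingDown
import Mathlib.RingTheory.Ideal.GoingUp

/-!
# Primes of strict henselizations of universally catenary rings
-/

set_option autoImplicit false
set_option linter.style.haveILetI false
set_option backward.isDefEq.respectTransparency false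
set_option backward.isDefEq.respectTransparency.types false

universe u

open IsLocalRing Order

namespace Groth.Agent.DimLocalBase

variable (O : Type u) [CommRing O] [IsLocalRing O] (R : Type u) [CommRing R] [IsLocalRing R] [Algebra O R]
    [IsLocalHom (algebraMap O R)] [_root_.Hensel.IsStrictHenselization O R]

theorem lt_comap_of_lt (P Q : Ideal R) [P.IsPrime] [Q.IsPrime] (h : P < Q) :
    P.comap (algebraMap O R) < Q.comap (algebraMap O R) := by
  haveI : Algebra.WeaklyEtale O R := S0736.result _ _ (S12237.result O R)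
  refine lt_of_le_of_ne (Ideal.comap_mono h.le) fun he => ?_
  obtain ⟨x, hxQ, hxP⟩ := SetLike.exists_of_lt h
  have halg := WStrictLib.algebraicResidueExtensions_of_weaklyEtale (A := O) (B := R) P
  have h1 : Ideal.comap (algebraMap (O ⧸ P.comap (algebraMap O R)) (R ⧸ P)) (Q.map (Ideal.Quotient.mk P)) ≠ ⊥ :=
    Ideal.comap_ne_bot_of_algebraic_mem (x := Ideal.Quotient.mk P x)
      (fun h0 => hxP (Ideal.Quotient.eq_zero_iff_mem.1 h0)) (Ideal.mem_map_of_mem _ hxQ)
      (Algebra.IsAlgebraic.isAlgebraic _)
  refine h1 (eq_bot_iff.2 fun a ha => ?_)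
  obtain ⟨a, rfl⟩ := Ideal.Quotient.mk_surjective a
  refine Ideal.mem_bot.2 (Ideal.Quotient.eq_zero_iff_mem.2 ?_)
  rw [he, Ideal.mem_comap]
  have h2 : algebraMap O R a ∈ (Q.map (Ideal.Quotient.mk P)).comap (Ideal.Quotient.mk P) := ha
  rwa [Ideal.comap_map_of_surjective _ Ideal.Quotient.mk_surjective, ← RingHom.ker_eq_comap_bot, Ideal.mk_ker,
    sup_eq_left.2 h.le] at h2

/-- quotients of a strict henselization of a universally catenary ring by primes have the dimension of their contraction -/
theorem ringKrullDim_quotient_strict [IsNoetherianRing O] (hO : CAlg.IsUniversallyCatenary O) (P : Ideal R) [P.IsPrime] :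
    ringKrullDim (R ⧸ P) = ringKrullDim (O ⧸ P.comap (algebraMap O R)) := by
  classical
  let p := P.comap (algebraMap O R)
  have hker : ∀ {S : Type u} [CommRing S] (I : Ideal S), RingHom.ker (Ideal.Quotient.mk I) = I := fun I => Ideal.mk_ker
  apply le_antisymm
  · refine Order.krullDim_le_of_strictMono
      (fun Q : PrimeSpectrum (R ⧸ P) => (⟨(Q.asIdeal.comap (Ideal.Quotient.mk P)).comap (algebraMap O R) |>.map
        (Ideal.Quotient.mk p), Ideal.map_isPrime_of_surjective Ideal.Quotient.mk_surjective ((hker p).le.trans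
          (Ideal.comap_mono fun a ha => by
            show Ideal.Quotient.mk P a ∈ Q.asIdeal
            rw [Ideal.Quotient.eq_zero_iff_mem.2 ha]
            exact Q.asIdeal.zero_mem))⟩ : PrimeSpectrum (O ⧸ p))) fun Q Q' hQ => ?_
    have hle : ∀ Q : PrimeSpectrum (R ⧸ P), p ≤ (Q.asIdeal.comap (Ideal.Quotient.mk P)).comap (algebraMap O R) :=
      fun Q => Ideal.comap_mono fun a ha => by
        show Ideal.Quotient.mk P a ∈ Q.asIdeal
        rw [Ideal.Quotient.eq_zero_iff_mem.2 ha]
        exact Q.asIdeal.zero_mem
    have h1 : Q.asIdeal.comap (Ideal.Quotient.mk P) < Q'.asIdeal.comap (Ideal.Quotient.mk P) :=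
      lt_of_le_of_ne (Ideal.comap_mono hQ.le) fun h =>
        hQ.ne (PrimeSpectrum.ext (Ideal.comap_injective_of_surjective _ Ideal.Quotient.mk_surjective h))
    have h2 := lt_comap_of_lt O R _ _ h1
    refine lt_of_le_of_ne (Ideal.map_mono h2.le) fun he => h2.ne ?_
    have he' := congrArg (fun I : PrimeSpectrum (O ⧸ p) => I.asIdeal.comap (Ideal.Quotient.mk p)) he
    simpa [Ideal.comap_map_of_surjective _ Ideal.Quotient.mk_surjective, ← RingHom.ker_eq_comap_bot, hker,
      sup_eq_left.2 (hle Q), sup_eq_left.2 (hle Q')] using he'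
  · haveI : IsNoetherianRing R := (S0540.result O R).1 inferInstance
    obtain ⟨G, hG⟩ := (IsNoetherian.noetherian P : P.FG)
    obtain ⟨e⟩ := Hensel.exists_algEquiv_strictHenz O R
    obtain ⟨N, -, -, hN⟩ := Hensel.exists_ofB_list (Classical.arbitrary _) (G.image e.symm)
    let g : N.B →ₐ[O] R := e.toAlgHom.comp (Hensel.Henz.ofB N)
    letI : Algebra N.B R := g.toRingHom.toAlgebra
    haveI : IsScalarTower O N.B R := .of_algebraMap_eq fun a => (g.commutes a).symm
    haveI : Algebra.WeaklyEtale O R := S0736.result _ _ (S12237.result O R)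
    haveI : Algebra.WeaklyEtale O N.B := inferInstance
    haveI : Algebra.WeaklyEtale N.B R := WEtLib.cancel (A := O) (B := N.B) R
    haveI : Module.Flat N.B R := Algebra.WeaklyEtale.flat
    let q : Ideal N.B := P.comap g
    let n : Ideal N.B := (maximalIdeal R).comap g
    haveI : n.IsPrime := Ideal.comap_isPrime _ _
    haveI : q.IsPrime := Ideal.comap_isPrime _ _
    have hqP : ∀ Q : Ideal R, q ≤ Q.comap g → P ≤ Q := fun Q hQ => by
      rw [← hG, Submodule.span_le]
      intro z hz
      obtain ⟨b, hb⟩ := hN _ (Finset.mem_image_of_mem e.symm hz)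
      have hgb : g b = z := by
        show e (Hensel.Henz.ofB N b) = z
        rw [hb, e.apply_symm_apply]
      have hbq : b ∈ q := by
        show g b ∈ P
        rw [hgb, ← hG]
        exact Submodule.subset_span hz
      have := hQ hbq
      rwa [Ideal.mem_comap, hgb] at this
    -- the dimension formula
    let A' := O ⧸ p
    let B' := N.B ⧸ q
    haveI : q.LiesOver p := ⟨by
      ext a
      show algebraMap O R a ∈ P ↔ g (algebraMap O N.B a) ∈ P
      rw [g.commutes]⟩
    haveI : FaithfulSMul A' B' := inferInstance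
    haveI : Algebra.FiniteType O N.B := inferInstance
    haveI : Algebra.FiniteType A' B' :=
      haveI : Algebra.FiniteType O B' := Algebra.FiniteType.trans (S := N.B) inferInstance inferInstance
      Algebra.FiniteType.of_restrictScalars_finiteType O A' B'
    let mb : Ideal A' := (maximalIdeal O).map (Ideal.Quotient.mk p)
    let nb : Ideal B' := n.map (Ideal.Quotient.mk q)
    have hqn : q ≤ n := Ideal.comap_mono (le_maximalIdeal (Ideal.IsPrime.ne_top ‹_›))
    haveI : nb.IsPrime := Ideal.map_isPrime_of_surjective Ideal.Quotient.mk_surjective ((hker q).le.trans hqn)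
    haveI : mb.IsPrime := Ideal.map_isPrime_of_surjective Ideal.Quotient.mk_surjective
      ((hker p).le.trans (le_maximalIdeal (Ideal.IsPrime.ne_top inferInstance)))
    have hnc : nb.comap (Ideal.Quotient.mk q) = n := by
      rw [Ideal.comap_map_of_surjective _ Ideal.Quotient.mk_surjective, ← RingHom.ker_eq_comap_bot, hker,
        sup_eq_left.2 hqn]
    have hno : n.comap (algebraMap O N.B) = maximalIdeal O := by
      rw [← IsLocalRing.maximalIdeal_comap (algebraMap O R)]
      ext a
      show g (algebraMap O N.B a) ∈ maximalIdeal R ↔ algebraMap O R a ∈ maximalIdeal R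
      rw [g.commutes]
    haveI : nb.LiesOver mb := ⟨by
      ext a
      obtain ⟨a, rfl⟩ := Ideal.Quotient.mk_surjective a
      show Ideal.Quotient.mk p a ∈ mb ↔ Ideal.Quotient.mk q (algebraMap O N.B a) ∈ nb
      rw [← Ideal.mem_comap, ← Ideal.mem_comap (f := Ideal.Quotient.mk q), hnc, Ideal.comap_map_of_surjective _
        Ideal.Quotient.mk_surjective, ← RingHom.ker_eq_comap_bot, hker,
        sup_eq_left.2 (le_maximalIdeal (Ideal.IsPrime.ne_top inferInstance)), ← hno]
      rfl⟩
    have halg : ∀ I : Ideal N.B, I.IsPrime → Algebra.IsAlgebraic (O ⧸ I.comap (algebraMap O N.B)) (N.B ⧸ I) :=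
      fun I hI => @WStrictLib.algebraicResidueExtensions_of_weaklyEtale O N.B _ _ _ _ I hI
    have t1 : Algebra.trdeg A' B' = 0 := by
      haveI : Algebra.IsAlgebraic A' B' := by
        refine ⟨fun z => ?_⟩
        have h := (halg q inferInstance).isAlgebraic z
        refine h.ringHom_of_comp_eq (Ideal.quotEquivOfEq (Ideal.LiesOver.over (P := q) (p := p)).symm).toRingHom
          (RingHom.id _) (RingEquiv.injective _) (RingHom.ext fun a => ?_)
        obtain ⟨a, rfl⟩ := Ideal.Quotient.mk_surjective a
        rfl
      exact trdeg_eq_zero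
    have t2 : Algebra.trdeg (A' ⧸ mb) (B' ⧸ nb) = 0 := by
      haveI : Algebra.IsAlgebraic (A' ⧸ mb) (B' ⧸ nb) := by
        refine ⟨fun z => ?_⟩
        obtain ⟨z, rfl⟩ := Ideal.Quotient.mk_surjective z
        obtain ⟨z, rfl⟩ := Ideal.Quotient.mk_surjective z
        have h := (halg n inferInstance).isAlgebraic (Ideal.Quotient.mk n z)
        let φ : O ⧸ n.comap (algebraMap O N.B) →+* A' ⧸ mb :=
          Ideal.Quotient.lift _ ((Ideal.Quotient.mk mb).comp (Ideal.Quotient.mk p)) fun a ha =>
            Ideal.Quotient.eq_zero_iff_mem.2 (Ideal.mem_map_of_mem _ (hno ▸ ha))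
        haveI : (n.comap (algebraMap O N.B)).IsMaximal := hno ▸ maximalIdeal.isMaximal O
        letI := Ideal.Quotient.field (n.comap (algebraMap O N.B))
        let ψ : N.B ⧸ n →+* B' ⧸ nb :=
          Ideal.Quotient.lift _ ((Ideal.Quotient.mk nb).comp (Ideal.Quotient.mk q)) fun a ha =>
            Ideal.Quotient.eq_zero_iff_mem.2 (Ideal.mem_map_of_mem _ ha)
        refine h.ringHom_of_comp_eq φ ψ φ.injective (RingHom.ext fun a => ?_)
        obtain ⟨a, rfl⟩ := Ideal.Quotient.mk_surjective a
        rfl
      exact trdeg_eq_zero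
    have hf := (DimFormula.trdeg_formula A' mb nb).2
      (DimFormula.isUniversallyCatenary_localization
        (DimFormula.isUniversallyCatenary_of_surjective hO _ Ideal.Quotient.mk_surjective) mb.primeCompl _)
    rw [t1, t2, add_zero, add_zero] at hf
    have hh : nb.height = mb.height := by exact_mod_cast hf
    have hdimA : ringKrullDim A' = (mb.height : WithBot ℕ∞) := by
      haveI : IsLocalRing A' := .of_surjective' (Ideal.Quotient.mk p) Ideal.Quotient.mk_surjective
      rw [show mb = maximalIdeal A' from IsLocalRing.eq_maximalIdeal (by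
        exact (Ideal.map_eq_top_or_isMaximal_of_surjective _ Ideal.Quotient.mk_surjective (maximalIdeal.isMaximal O)).resolve_left (Ideal.IsPrime.ne_top ‹mb.IsPrime›))]
      exact IsLocalRing.maximalIdeal_height_eq_ringKrullDim.symm
    rw [hdimA, ← hh]
    haveI : IsNoetherianRing N.B := Algebra.FiniteType.isNoetherianRing O N.B
    haveI : IsNoetherianRing B' := isNoetherianRing_of_surjective _ _ (Ideal.Quotient.mk q) Ideal.Quotient.mk_surjective
    obtain ⟨a, ha⟩ := ENat.ne_top_iff_exists.1 (Ideal.height_ne_top_of_isPrime (I := nb))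
    rw [← ha]
    obtain ⟨l, hl, hlen⟩ := exists_series_of_height_eq_coe (⟨nb, inferInstance⟩ : PrimeSpectrum B')
      ((PrimeSpectrum.height_eq_orderHeight (⟨nb, inferInstance⟩ : PrimeSpectrum B')).symm.trans ha.symm)
    let l' : LTSeries (PrimeSpectrum N.B) := LTSeries.mk l.length
      (fun i => ⟨(l i).asIdeal.comap (Ideal.Quotient.mk q), inferInstance⟩) fun i j hij => by
        refine lt_of_le_of_ne (Ideal.comap_mono (l.strictMono hij).le) fun h => (l.strictMono hij).ne ?_
        exact PrimeSpectrum.ext (Ideal.comap_injective_of_surjective _ Ideal.Quotient.mk_surjective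
          (congrArg PrimeSpectrum.asIdeal h))
    haveI : (maximalIdeal R).LiesOver l'.last.asIdeal := ⟨by
      show (l (Fin.last _)).asIdeal.comap (Ideal.Quotient.mk q) = n
      rw [show l (Fin.last _) = _ from hl]
      exact hnc⟩
    obtain ⟨L, hLlen, hLlast, hLl⟩ := Ideal.exists_ltSeries_of_hasGoingDown l' (maximalIdeal R)
    have hq0 : q ≤ l'.head.asIdeal := fun b hb => by
      show Ideal.Quotient.mk q b ∈ (l 0).asIdeal
      rw [Ideal.Quotient.eq_zero_iff_mem.2 hb]
      exact (l 0).asIdeal.zero_mem
    have hPL : P ≤ L.head.asIdeal := by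
      refine hqP _ ?_
      have h0 := congrArg (fun l : List (PrimeSpectrum N.B) => l[0]?) hLl
      simp only [List.getElem?_map, List.getElem?_eq_getElem (show 0 < L.toList.length by simp),
        List.getElem?_eq_getElem (show 0 < l'.toList.length by simp), Option.map_some, Option.some.injEq,
        RelSeries.toList_getElem_zero_eq_head] at h0
      refine hq0.trans ?_
      rw [← h0]
      exact le_rfl
    let t : LTSeries (PrimeSpectrum (R ⧸ P)) := LTSeries.mk L.length
      (fun i => ⟨(L i).asIdeal.map (Ideal.Quotient.mk P), Ideal.map_isPrime_of_surjective Ideal.Quotient.mk_surjective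
        ((hker P).le.trans (hPL.trans (L.head_le i)))⟩)
      fun i j hij => by
        have hlt := (PrimeSpectrum.asIdeal_lt_asIdeal _ _).2 (L.strictMono hij)
        refine lt_of_le_of_ne (Ideal.map_mono hlt.le) fun he => hlt.ne ?_
        have he' := congrArg (Ideal.comap (Ideal.Quotient.mk P)) (congrArg PrimeSpectrum.asIdeal he)
        simpa [Ideal.comap_map_of_surjective _ Ideal.Quotient.mk_surjective, ← RingHom.ker_eq_comap_bot, hker,
          sup_eq_left.2 (hPL.trans (L.head_le i)), sup_eq_left.2 (hPL.trans (L.head_le j))] using he'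
    have := Order.LTSeries.length_le_krullDim t
    rw [show t.length = a from hLlen.trans hlen] at this
    exact this

end Groth.Agent.DimLocalBase
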