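import Groth.Agent.AcycFin.StrictLoc
import Groth.Agent.S0736
import Groth.Agent.S12237

/-!
# Models of strict henselizations with a closed point over a strictly henselian base
-/

set_option autoImplicit false
set_option linter.style.haveILetI false
set_option backward.isDefEq.respectTransparency false
set_option backward.isDefEq.respectTransparency.types false

universe u

open IsLocalRing TensorProduct

noncomputable section

namespace Groth.Agent.DimLocalBase

/-- strictly henselian weakly étale local algebras are strict henselizations -/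
theorem isStrictHenselization_of_strict {A R : Type u} [CommRing A] [IsLocalRing A] [CommRing R] [IsLocalRing R]
    [HenselianLocalRing R] [IsSepClosed (ResidueField R)] [Algebra A R] [IsLocalHom (algebraMap A R)]
    [Algebra.WeaklyEtale A R] : _root_.Hensel.IsStrictHenselization A R := by
  obtain ⟨R₀, _, _, _, _, hR₀⟩ := BcQCalc.exists_strictHens A
  haveI := hR₀
  haveI : Algebra.WeaklyEtale A R₀ := S0736.result _ _ (S12237.result A R₀)
  haveI : HenselianLocalRing R₀ := _root_.Hensel.IsStrictHenselization.henselian (R := A)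
  haveI : IsSepClosed (ResidueField R₀) := BcQCalc.isSepClosed_residueField_of_strict A R₀
  obtain ⟨τ, hτ⟩ := BcQCalc.exists_residue_extension (O := A) (R := R₀) (ResidueField.map (algebraMap A R))
  obtain ⟨ψ, ⟨hψ, hψr⟩, -⟩ := hR₀.universal R (algebraMap A R) τ hτ
  letI : Algebra R₀ R := ψ.toAlgebra
  haveI : IsScalarTower A R₀ R := IsScalarTower.of_algebraMap_eq fun a => (RingHom.congr_fun hψ a).symm
  haveI : IsLocalHom (algebraMap R₀ R) := ⟨fun a ha => by
    by_contra h
    have h1 : residue R₀ a = 0 := (residue_eq_zero_iff a).2 h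
    have h2 : residue R (ψ a) = 0 := by rw [hψr, h1, map_zero]
    exact (residue_eq_zero_iff _).1 h2 ha⟩
  haveI : Algebra.WeaklyEtale R₀ R := WEtLib.cancel (A := A) (B := R₀) R
  exact AcycFin.isStrictHenselization_of_bijective
    (RingEquiv.ofBijective ψ (WEtLib.bijective_algebraMap (A := R₀) (B := R))) hψ

/-- base change of a strict henselization along a weakly étale local base -/
theorem exists_model (C L Γ O A : Type u) [CommRing C] [CommRing L] [IsLocalRing L] [Algebra C L]
    [Algebra.WeaklyEtale C L] [CommRing Γ] [Algebra C Γ] [Algebra.FiniteType C Γ] (P : Ideal Γ) [P.IsPrime]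
    [CommRing O] [IsLocalRing O] [Algebra Γ O] [IsLocalization.AtPrime O P] [CommRing A] [IsLocalRing A] [Algebra O A]
    [IsLocalHom (algebraMap O A)] [_root_.Hensel.IsStrictHenselization O A] (ψ : L →+* A) [IsLocalHom ψ]
    (hψ : ∀ c, ψ (algebraMap C L c) = algebraMap O A (algebraMap Γ O (algebraMap C Γ c)))
    (halg : ∀ z : ResidueField A, @IsAlgebraic (ResidueField L) (ResidueField A) _ _ (ResidueField.map ψ).toAlgebra z) :
    ∃ (B : Type u) (_ : CommRing B) (_ : Algebra L B) (_ : Algebra.FiniteType L B) (n : Ideal B) (_ : n.IsMaximal),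
      n.comap (algebraMap L B) = maximalIdeal L ∧
      ∀ (Bn : Type u) [CommRing Bn] [IsLocalRing Bn] [Algebra B Bn] [IsLocalization.AtPrime Bn n],
        ∃ (_ : Algebra Bn A) (_ : IsLocalHom (algebraMap Bn A)), _root_.Hensel.IsStrictHenselization Bn A := by
  letI : Algebra Γ A := ((algebraMap O A).comp (algebraMap Γ O)).toAlgebra
  haveI : IsScalarTower Γ O A := .of_algebraMap_eq fun _ => rfl
  letI : Algebra C A := ((algebraMap Γ A).comp (algebraMap C Γ)).toAlgebra
  haveI : IsScalarTower C Γ A := .of_algebraMap_eq fun _ => rfl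
  let ψ' : L →ₐ[C] A := { ψ with commutes' := hψ }
  let B := Γ ⊗[C] L
  letI : Algebra L B := Algebra.TensorProduct.rightAlgebra
  haveI : IsScalarTower C L B := .of_algebraMap_eq fun c => by
    show (algebraMap C Γ c) ⊗ₜ[C] (1 : L) = (1 : Γ) ⊗ₜ[C] (algebraMap C L c)
    rw [Algebra.algebraMap_eq_smul_one, Algebra.algebraMap_eq_smul_one, TensorProduct.smul_tmul]
  let sw : L ⊗[C] Γ →ₐ[L] B :=
    Algebra.TensorProduct.lift (Algebra.ofId L B) Algebra.TensorProduct.includeLeft fun _ _ => .all _ _
  have hsw : Function.Surjective sw := fun z => by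
    induction z using TensorProduct.induction_on with
    | zero => exact ⟨0, map_zero _⟩
    | add a b ha hb =>
      obtain ⟨a, rfl⟩ := ha
      obtain ⟨b, rfl⟩ := hb
      exact ⟨a + b, map_add _ _ _⟩
    | tmul x l =>
      refine ⟨l ⊗ₜ x, ?_⟩
      rw [Algebra.TensorProduct.lift_tmul]
      show ((1 : Γ) ⊗ₜ[C] l) * (x ⊗ₜ[C] (1 : L)) = _
      rw [Algebra.TensorProduct.tmul_mul_tmul, one_mul, mul_one]
  haveI : Algebra.FiniteType L B :=
    Algebra.FiniteType.of_surjective sw hsw
  let Φ : B →ₐ[C] A := Algebra.TensorProduct.lift (IsScalarTower.toAlgHom C Γ A) ψ' fun _ _ => .all _ _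
  have hΦl : ∀ l, Φ (algebraMap L B l) = ψ l := fun l => by
    show Φ ((1 : Γ) ⊗ₜ[C] l) = _
    rw [Algebra.TensorProduct.lift_tmul, map_one, one_mul]
    rfl
  have hΦΓ : ∀ x, Φ (algebraMap Γ B x) = algebraMap Γ A x := fun x => by
    show Φ (x ⊗ₜ[C] (1 : L)) = _
    rw [Algebra.TensorProduct.lift_tmul, map_one, mul_one]
    rfl
  let n : Ideal B := (maximalIdeal A).comap Φ
  haveI : n.IsPrime := Ideal.comap_isPrime _ _
  have hnL : n.comap (algebraMap L B) = maximalIdeal L := by
    rw [← IsLocalRing.maximalIdeal_comap ψ]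
    ext l
    show Φ (algebraMap L B l) ∈ maximalIdeal A ↔ ψ l ∈ maximalIdeal A
    rw [hΦl]
  haveI : n.IsMaximal := by
    haveI : (n.comap (algebraMap L B)).IsMaximal := hnL ▸ maximalIdeal.isMaximal L
    letI := Ideal.Quotient.field (n.comap (algebraMap L B))
    haveI : Algebra.IsAlgebraic (L ⧸ n.comap (algebraMap L B)) (B ⧸ n) := ⟨fun z => by
      obtain ⟨z, rfl⟩ := Ideal.Quotient.mk_surjective z
      letI : Algebra (ResidueField L) (ResidueField A) := (ResidueField.map ψ).toAlgebra
      let ε : L ⧸ n.comap (algebraMap L B) →+* ResidueField L :=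
        Ideal.Quotient.lift _ (residue L) fun a ha => (residue_eq_zero_iff a).2 (hnL ▸ ha)
      let κ : B ⧸ n →+* ResidueField A :=
        Ideal.Quotient.lift n ((residue A).comp Φ.toRingHom) fun a ha => (residue_eq_zero_iff _).2 ha
      have hκ : Function.Injective κ := (RingHom.injective_iff_ker_eq_bot _).2 (eq_bot_iff.2 fun a ha => by
        obtain ⟨a, rfl⟩ := Ideal.Quotient.mk_surjective a
        exact Ideal.Quotient.eq_zero_iff_mem.2 ((residue_eq_zero_iff _).1 ha : Φ a ∈ maximalIdeal A))
      have hε : Function.Surjective ε := fun w => by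
        obtain ⟨w, rfl⟩ := residue_surjective w
        exact ⟨Ideal.Quotient.mk _ w, rfl⟩
      refine (halg (κ (Ideal.Quotient.mk n z))).of_ringHom_of_comp_eq ε κ hε hκ (RingHom.ext fun a => ?_)
      obtain ⟨a, rfl⟩ := Ideal.Quotient.mk_surjective a
      show residue A (ψ a) = residue A (Φ (algebraMap L B a))
      rw [hΦl]⟩
    haveI : Algebra.IsIntegral (L ⧸ n.comap (algebraMap L B)) (B ⧸ n) := Algebra.IsAlgebraic.isIntegral
    exact Ideal.Quotient.maximal_of_isField n
      (isField_of_isIntegral_of_isField' (R := L ⧸ n.comap (algebraMap L B)) (Field.toIsField _))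
  refine ⟨B, inferInstance, inferInstance, inferInstance, n, inferInstance, hnL, fun Bn _ _ _ _ => ?_⟩
  have hu : ∀ y : n.primeCompl, IsUnit (Φ.toRingHom y) := fun y => notMem_maximalIdeal.1 y.2
  let j : Bn →+* A := IsLocalization.lift hu
  letI : Algebra Bn A := j.toAlgebra
  have hj : ∀ b, j (algebraMap B Bn b) = Φ b := fun b => IsLocalization.lift_eq hu b
  haveI hloc : IsLocalHom (algebraMap Bn A) := ⟨fun w hw => by
    obtain ⟨b, s, rfl⟩ := IsLocalization.exists_mk'_eq n.primeCompl w
    refine (IsLocalization.AtPrime.isUnit_mk'_iff Bn n b s).2 fun hb => ?_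
    have h1 : j (algebraMap B Bn b) = j (IsLocalization.mk' Bn b s) * j (algebraMap B Bn s) := by
      rw [← map_mul, IsLocalization.mk'_spec]
    rw [hj, hj] at h1
    have h2 : IsUnit (Φ b) := by
      rw [h1]
      exact IsUnit.mul hw (hu s)
    exact (mem_maximalIdeal _).1 hb h2⟩
  refine ⟨inferInstance, hloc, ?_⟩
  -- weak étaleness over `Γ`
  haveI : Algebra.WeaklyEtale Γ B := inferInstance
  letI : Algebra Γ Bn := ((algebraMap B Bn).comp (algebraMap Γ B)).toAlgebra
  haveI : IsScalarTower Γ B Bn := .of_algebraMap_eq fun _ => rfl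
  haveI : Algebra.WeaklyEtale B Bn := WEtLib.weaklyEtale_localization n.primeCompl
  haveI : Algebra.WeaklyEtale Γ Bn := Algebra.WeaklyEtale.trans Γ B Bn
  haveI : IsScalarTower Γ Bn A := .of_algebraMap_eq fun x => ((hj _).trans (hΦΓ x)).symm
  haveI : Algebra.WeaklyEtale Γ O := WEtLib.weaklyEtale_localization P.primeCompl
  haveI : Algebra.WeaklyEtale O A := S0736.result _ _ (S12237.result O A)
  haveI : Algebra.WeaklyEtale Γ A := Algebra.WeaklyEtale.trans Γ O A
  haveI : Algebra.WeaklyEtale Bn A := WEtLib.cancel (A := Γ) (B := Bn) A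
  haveI : HenselianLocalRing A := _root_.Hensel.IsStrictHenselization.henselian (R := O)
  haveI : IsSepClosed (ResidueField A) := BcQCalc.isSepClosed_residueField_of_strict O A
  exact isStrictHenselization_of_strict

end Groth.Agent.DimLocalBase
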