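import Groth.Agent.DimLocalBase.StrictPoint
import Mathlib.RingTheory.DiscreteValuationRing.TFAE
import Mathlib.RingTheory.MvPolynomial.Tower

/-!
# Parameters at a point of a finite type algebra over a local ring
-/

set_option autoImplicit false
set_option linter.style.haveILetI false
set_option backward.isDefEq.respectTransparency false
set_option backward.isDefEq.respectTransparency.types false

universe u

open IsLocalRing MvPolynomial

noncomputable section

namespace Groth.Agent.DimLocalBase

/-- over a point above the closed point: a polynomial ring mapping finitely to the residue domain -/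
theorem exists_params (R Γ : Type u) [CommRing R] [IsLocalRing R] [CommRing Γ] [Algebra R Γ]
    [Algebra.FiniteType R Γ] (P : Ideal Γ) [P.IsPrime] (hP : P.comap (algebraMap R Γ) = maximalIdeal R) :
    ∃ (s : ℕ) (e : MvPolynomial (Fin s) R →+* Γ), e.FiniteType ∧
      ((Ideal.Quotient.mk P).comp e).IsIntegral ∧
      P.comap e = Ideal.map C (maximalIdeal R) := by
  letI : Algebra (ResidueField R) (Γ ⧸ P) := (Ideal.Quotient.lift (maximalIdeal R)
    ((Ideal.Quotient.mk P).comp (algebraMap R Γ)) fun a ha => Ideal.Quotient.eq_zero_iff_mem.2 (by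
      rw [← hP] at ha
      exact ha)).toAlgebra
  haveI : IsScalarTower R (ResidueField R) (Γ ⧸ P) := .of_algebraMap_eq fun _ => rfl
  haveI : Algebra.FiniteType R (Γ ⧸ P) := inferInstance
  haveI : Algebra.FiniteType (ResidueField R) (Γ ⧸ P) := Algebra.FiniteType.of_restrictScalars_finiteType R (ResidueField R) (Γ ⧸ P)
  obtain ⟨s, g, hg, hint⟩ := exists_integral_inj_algHom_of_fg (ResidueField R) (Γ ⧸ P)
  choose t ht using fun i => Ideal.Quotient.mk_surjective (g (X i))
  let e : MvPolynomial (Fin s) R →ₐ[R] Γ := aeval t
  have hcomp : (Ideal.Quotient.mk P).comp e.toRingHom = g.toRingHom.comp (MvPolynomial.map (residue R)) := by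
    refine MvPolynomial.ringHom_ext (fun r => ?_) (fun i => ?_)
    · show Ideal.Quotient.mk P (aeval t (C r)) = g (MvPolynomial.map (residue R) (C r))
      rw [aeval_C, map_C, ← MvPolynomial.algebraMap_eq, g.commutes]
      rfl
    · show Ideal.Quotient.mk P (aeval t (X i)) = g (MvPolynomial.map (residue R) (X i))
      rw [aeval_X, map_X, ht]
  refine ⟨s, e.toRingHom, ?_, ?_, ?_⟩
  · exact RingHom.FiniteType.of_comp_finiteType (f := MvPolynomial.C) (by
      rw [← MvPolynomial.algebraMap_eq, AlgHom.toRingHom_eq_coe, AlgHom.comp_algebraMap]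
      exact RingHom.finiteType_algebraMap.2 inferInstance)
  · rw [hcomp]
    exact RingHom.IsIntegral.trans _ _
      (RingHom.IsIntegral.of_finite (RingHom.Finite.of_surjective _ (map_surjective _ residue_surjective))) hint
  · rw [show P.comap e.toRingHom = RingHom.ker ((Ideal.Quotient.mk P).comp e.toRingHom) by
      rw [← RingHom.comap_ker, Ideal.mk_ker]]
    rw [hcomp, RingHom.ker_comp_of_injective _ hg, ker_map, ker_residue]

end Groth.Agent.DimLocalBase
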